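import Mathlib
import Cfsg.Agent.Lib.Linear.Transvection

/-!
# A linear group containing `SL₂(F)` on its natural module, with a Sylow subgroup normalizing it

`Γ` acts faithfully on `F²`, contains a copy of `SL₂(F)` acting naturally, and a Sylow
`p`-subgroup `T ⊇ U` normalizes that copy.  Then `U` is weakly closed and conjugates of the line
fixed by `U` meet trivially, unless `|F| = 4`; so the copy of `SL₂(F)` is normal.
-/

set_option autoImplicit false
set_option linter.style.haveILetI false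
set_option linter.unusedSectionVars false

namespace CfsgLib.NaturalSL2Embed

open Matrix Subgroup

variable (F : Type*) [Field F]

/-- The upper unitriangular matrices. -/
def uniHom : Multiplicative F →* SpecialLinearGroup (Fin 2) F where
  toFun a := ⟨!![1, a.toAdd; 0, 1], by simp [Matrix.det_fin_two]⟩
  map_one' := by
    ext i j
    fin_cases i <;> fin_cases j <;> simp
  map_mul' a b := by
    refine Subtype.ext ?_
    show _ = (!![1, a.toAdd; 0, 1] * !![1, b.toAdd; 0, 1] : Matrix (Fin 2) (Fin 2) F)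
    ext i j
    fin_cases i <;> fin_cases j <;> simp [Matrix.mul_apply, Fin.sum_univ_two, add_comm]

variable {F}

/-- An upper unitriangular matrix. -/
def uni (a : F) : SpecialLinearGroup (Fin 2) F := uniHom F (Multiplicative.ofAdd a)

theorem uni_coe (a : F) : (uni a : Matrix (Fin 2) (Fin 2) F) = !![1, a; 0, 1] := rfl

theorem uni_mulVec (a : F) (w : Fin 2 → F) :
    (uni a : Matrix (Fin 2) (Fin 2) F) *ᵥ w = ![w 0 + a * w 1, w 1] := by
  ext i
  fin_cases i <;> simp [uni_coe, Matrix.mulVec, dotProduct, Fin.sum_univ_two]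

theorem eq_vec (w : Fin 2 → F) : w = ![w 0, w 1] := by
  ext i
  fin_cases i <;> rfl

variable (F) in
/-- The first axis. -/
def ell0 : AddSubgroup (Fin 2 → F) where
  carrier := {w | w 1 = 0}
  zero_mem' := rfl
  add_mem' := fun {a b} ha hb => by
    show a 1 + b 1 = 0
    rw [ha, hb, add_zero]
  neg_mem' := fun {a} ha => by
    show -a 1 = 0
    rw [ha, neg_zero]

theorem mem_ell0 {w : Fin 2 → F} : w ∈ ell0 F ↔ w 1 = 0 := Iff.rfl

theorem card_ell0 [Fintype F] : Nat.card (ell0 F) = Fintype.card F := by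
  rw [← Nat.card_eq_fintype_card]
  exact Nat.card_congr
    { toFun := fun w => (w : Fin 2 → F) 0
      invFun := fun x => ⟨![x, 0], rfl⟩
      left_inv := fun w => Subtype.ext (by
        conv_rhs => rw [eq_vec (w : Fin 2 → F), mem_ell0.1 w.2])
      right_inv := fun x => rfl }

/-- The situation. -/
structure Emb (p : ℕ) (F : Type*) [Field F] (Γ : Type*) [Group Γ] where
  /-- the action -/
  ρ : Γ →* AddMonoid.End (Fin 2 → F)
  inj : Function.Injective ρ
  /-- the copy of `SL₂` -/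
  σ : SpecialLinearGroup (Fin 2) F →* Γ
  hσ : ∀ A w, ρ (σ A) w = (A : Matrix (Fin 2) (Fin 2) F) *ᵥ w
  /-- the Sylow subgroup -/
  T : Sylow p Γ
  hT : ∀ t ∈ (T : Subgroup Γ), ∀ A, ∃ B, t * σ A * t⁻¹ = σ B
  hUT : ∀ a : F, σ (uni a) ∈ (T : Subgroup Γ)

namespace Emb

variable {p : ℕ} {Γ : Type*} [Group Γ] (e : Emb p F Γ)

theorem act_one (w : Fin 2 → F) : e.ρ 1 w = w := by rw [map_one]; rfl

theorem act_mul (g h : Γ) (w : Fin 2 → F) : e.ρ (g * h) w = e.ρ g (e.ρ h w) := by rw [map_mul]; rfl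

theorem act_inv_act (g : Γ) (w : Fin 2 → F) : e.ρ g⁻¹ (e.ρ g w) = w := by
  rw [← act_mul, inv_mul_cancel, act_one]

theorem act_act_inv (g : Γ) (w : Fin 2 → F) : e.ρ g (e.ρ g⁻¹ w) = w := by
  rw [← act_mul, mul_inv_cancel, act_one]

theorem act_injective (g : Γ) : Function.Injective (e.ρ g) :=
  Function.LeftInverse.injective (e.act_inv_act g)

theorem ext_act {g h : Γ} (H : ∀ w, e.ρ g w = e.ρ h w) : g = h := e.inj (AddMonoidHom.ext H)

theorem σ_injective : Function.Injective e.σ := by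
  intro A B h
  refine Subtype.ext (Matrix.ext_of_mulVec_single fun i => ?_)
  rw [← e.hσ, ← e.hσ, h]

/-- The root group. -/
def U : Subgroup Γ := ((e.σ).comp (uniHom F)).range

theorem mem_U {x : Γ} : x ∈ e.U ↔ ∃ a : F, e.σ (uni a) = x :=
  ⟨fun ⟨a, h⟩ => ⟨a.toAdd, h⟩, fun ⟨a, h⟩ => ⟨Multiplicative.ofAdd a, h⟩⟩

theorem U_le_T : e.U ≤ (e.T : Subgroup Γ) := fun x hx => by
  obtain ⟨a, rfl⟩ := e.mem_U.1 hx
  exact e.hUT a

theorem card_U [Fintype F] : Nat.card e.U = Fintype.card F := by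
  rw [U, Nat.card_congr (MonoidHom.ofInjective (f := (e.σ).comp (uniHom F)) ?_).toEquiv.symm,
    Nat.card_congr Multiplicative.toAdd, Nat.card_eq_fintype_card]
  intro a b h
  have h1 := congrArg (fun M : SpecialLinearGroup (Fin 2) F => (M : Matrix (Fin 2) (Fin 2) F) 0 1)
    (e.σ_injective h)
  exact Multiplicative.toAdd.injective h1

theorem fix_U {x : Γ} (hx : x ∈ e.U) (hx1 : x ≠ 1) {w : Fin 2 → F} :
    e.ρ x w = w ↔ w ∈ ell0 F := by
  obtain ⟨a, rfl⟩ := e.mem_U.1 hx
  have ha : a ≠ 0 := fun h => hx1 (by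
    rw [h, show uni (0 : F) = 1 from map_one (uniHom F), map_one])
  rw [e.hσ, uni_mulVec, mem_ell0]
  constructor
  · intro h
    have h0 := congrFun h 0
    simp at h0
    exact h0.resolve_left ha
  · intro h
    conv_rhs => rw [eq_vec w]
    rw [h, mul_zero, add_zero]

theorem U_fixes {x : Γ} (hx : x ∈ e.U) {w : Fin 2 → F} (hw : w ∈ ell0 F) : e.ρ x w = w := by
  rcases eq_or_ne x 1 with rfl | h
  · exact e.act_one w
  · exact (e.fix_U hx h).2 hw

theorem U_sub {x : Γ} (hx : x ∈ e.U) (w : Fin 2 → F) : e.ρ x w - w ∈ ell0 F := by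
  obtain ⟨a, rfl⟩ := e.mem_U.1 hx
  rw [e.hσ, uni_mulVec, mem_ell0]
  simp

/-- A conjugate of the first axis. -/
def line (g : Γ) : AddSubgroup (Fin 2 → F) := (ell0 F).map (e.ρ g)

/-- A conjugate of the root group. -/
def Uc (g : Γ) : Subgroup Γ := e.U.map (MulAut.conj g).toMonoidHom

theorem mem_line {g : Γ} {w : Fin 2 → F} : w ∈ e.line g ↔ e.ρ g⁻¹ w ∈ ell0 F := by
  constructor
  · rintro ⟨v, hv, rfl⟩
    show e.ρ g⁻¹ (e.ρ g v) ∈ _
    rw [act_inv_act]
    exact hv
  · exact fun h => ⟨_, h, e.act_act_inv g w⟩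

theorem line_one : e.line 1 = ell0 F := by
  ext w
  rw [mem_line, inv_one, act_one]

theorem mem_line_mul {g h : Γ} {w : Fin 2 → F} : w ∈ e.line (g * h) ↔ e.ρ g⁻¹ w ∈ e.line h := by
  rw [mem_line, mem_line, _root_.mul_inv_rev, act_mul]

theorem card_line [Fintype F] (g : Γ) : Nat.card (e.line g) = Fintype.card F := by
  rw [line, ← card_ell0]
  exact Nat.card_congr ((ell0 F).equivMapOfInjective _ (e.act_injective g)).toEquiv.symm

theorem mem_Uc {g x : Γ} : x ∈ e.Uc g ↔ g⁻¹ * x * g ∈ e.U := by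
  constructor
  · rintro ⟨y, hy, rfl⟩
    show g⁻¹ * (g * y * g⁻¹) * g ∈ _
    simpa [mul_assoc] using hy
  · intro h
    exact ⟨_, h, show g * (g⁻¹ * x * g) * g⁻¹ = x by group⟩

theorem Uc_one : e.Uc 1 = e.U := by
  ext x
  simp [mem_Uc]

theorem card_Uc [Fintype F] (g : Γ) : Nat.card (e.Uc g) = Fintype.card F := by
  rw [Uc, Subgroup.card_map_of_injective (MulAut.conj g).injective, card_U]

theorem map_Uc (g h : Γ) : (e.Uc h).map (MulAut.conj g).toMonoidHom = e.Uc (g * h) := by
  ext x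
  rw [Subgroup.mem_map_equiv, mem_Uc, mem_Uc, MulAut.conj_symm_apply]
  simp [mul_assoc]

theorem fix_Uc {g x : Γ} (hx : x ∈ e.Uc g) (hx1 : x ≠ 1) {w : Fin 2 → F} :
    e.ρ x w = w ↔ w ∈ e.line g := by
  have h1 : g⁻¹ * x * g ≠ 1 := fun h => hx1 (by
    calc x = g * (g⁻¹ * x * g) * g⁻¹ := by group
      _ = 1 := by rw [h]; group)
  rw [mem_line, ← e.fix_U (e.mem_Uc.1 hx) h1, ← act_mul,
    show g⁻¹ * x * g * g⁻¹ = g⁻¹ * x by group, act_mul]
  exact ⟨fun h => by rw [h], fun h => e.act_injective _ h⟩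

theorem Uc_fixes {g x : Γ} (hx : x ∈ e.Uc g) {w : Fin 2 → F} (hw : w ∈ e.line g) : e.ρ x w = w := by
  rcases eq_or_ne x 1 with rfl | h
  · exact e.act_one w
  · exact (e.fix_Uc hx h).2 hw

theorem Uc_sub {g x : Γ} (hx : x ∈ e.Uc g) (w : Fin 2 → F) : e.ρ x w - w ∈ e.line g := by
  rw [mem_line, map_sub, ← act_mul]
  have := e.U_sub (e.mem_Uc.1 hx) (e.ρ g⁻¹ w)
  rwa [← act_mul, show g⁻¹ * x * g * g⁻¹ = g⁻¹ * x by group] at this

theorem line_eq_of_Uc_eq [Fintype F] {g h : Γ} (H : e.Uc g = e.Uc h) : e.line g = e.line h := by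
  obtain ⟨x, hx, hx1⟩ := (e.Uc g).bot_or_exists_ne_one.resolve_left fun hb => by
    have := e.card_Uc g
    rw [hb, Subgroup.card_bot] at this
    exact absurd this (Fintype.one_lt_card).ne
  ext w
  rw [← e.fix_Uc hx hx1, ← e.fix_Uc (H ▸ hx) hx1]

/-! ### The Sylow subgroup acts semilinearly -/

variable [Fintype F] [Finite Γ] [hp : Fact p.Prime] [CharP F p]

theorem exists_fixed_vec :
    ∃ c : F, c ≠ 0 ∧ ∀ t ∈ (e.T : Subgroup Γ), e.ρ t ![c, 0] = ![c, 0] := by
  letI : MulAction (e.T : Subgroup Γ) (Fin 2 → F) :=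
    { smul := fun t w => e.ρ (t : Γ) w
      one_smul := fun w => e.act_one w
      mul_smul := fun s t w => e.act_mul s t w }
  have hd : p ∣ Nat.card (Fin 2 → F) := by
    obtain ⟨n, hn⟩ := FiniteField.card F p
    rw [Nat.card_eq_fintype_card, Fintype.card_fun, hn.2, ← pow_mul]
    exact dvd_pow_self p (by simp)
  have h0 : (0 : Fin 2 → F) ∈ MulAction.fixedPoints (e.T : Subgroup Γ) (Fin 2 → F) := fun t => map_zero (e.ρ (t : Γ))
  obtain ⟨v, hv, hne⟩ := e.T.isPGroup'.exists_fixed_point_of_prime_dvd_card_of_fixed_point _ hd h0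
  have hfix : ∀ t ∈ (e.T : Subgroup Γ), e.ρ t v = v := fun t ht => hv ⟨t, ht⟩
  have h1 : v 1 = 0 := by
    have := congrFun (hfix _ (e.hUT 1)) 0
    rw [e.hσ, uni_mulVec] at this
    simpa using this
  have hv' : v = ![v 0, 0] := by
    conv_lhs => rw [eq_vec v, h1]
  refine ⟨v 0, fun h => hne ?_, fun t ht => hv' ▸ hfix t ht⟩
  rw [hv', h]
  ext i
  fin_cases i <;> rfl

theorem conj_uni {t : Γ} (ht : t ∈ (e.T : Subgroup Γ)) (a : F) :
    ∃ b, t * e.σ (uni a) = e.σ (uni b) * t := by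
  obtain ⟨c, hc, hfix⟩ := e.exists_fixed_vec
  obtain ⟨B, hB⟩ := e.hT t ht (uni a)
  have h1 : e.ρ (t * e.σ (uni a) * t⁻¹) ![c, 0] = ![c, 0] := by
    rw [act_mul, act_mul, hfix _ (inv_mem ht), hfix _ (e.hUT a), hfix _ ht]
  rw [hB, e.hσ] at h1
  have e0 := congrFun h1 0
  have e1 := congrFun h1 1
  simp [Matrix.mulVec, dotProduct, Fin.sum_univ_two] at e0 e1
  have b00 : (B : Matrix (Fin 2) (Fin 2) F) 0 0 = 1 := mul_right_cancel₀ hc (by rw [e0, one_mul])
  have b10 : (B : Matrix (Fin 2) (Fin 2) F) 1 0 = 0 := e1.resolve_right hc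
  have hd := B.2
  rw [Matrix.det_fin_two, b00, b10] at hd
  simp at hd
  refine ⟨(B : Matrix (Fin 2) (Fin 2) F) 0 1, ?_⟩
  have hBe : B = uni ((B : Matrix (Fin 2) (Fin 2) F) 0 1) := by
    refine Subtype.ext ?_
    rw [uni_coe]
    ext i j
    fin_cases i <;> fin_cases j <;> simp [b00, b10, hd]
  rw [← hBe, ← hB]
  group

/-- The action on the first axis. -/
def al (g : Γ) : F →+ F where
  toFun x := e.ρ g ![x, 0] 0
  map_zero' := by
    rw [show ![(0 : F), 0] = 0 by ext i; fin_cases i <;> rfl, map_zero]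
    rfl
  map_add' x y := by
    rw [show ![x + y, (0 : F)] = ![x, 0] + ![y, 0] by ext i; fin_cases i <;> simp, map_add]
    rfl

/-- The action on the quotient by the first axis. -/
def ga (g : Γ) : F →+ F where
  toFun y := e.ρ g ![0, y] 1
  map_zero' := by
    rw [show ![(0 : F), 0] = 0 by ext i; fin_cases i <;> rfl, map_zero]
    rfl
  map_add' x y := by
    rw [show ![(0 : F), x + y] = ![0, x] + ![0, y] by ext i; fin_cases i <;> simp, map_add]
    rfl

theorem al_apply (g : Γ) (x : F) : e.al g x = e.ρ g ![x, 0] 0 := rfl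

theorem ga_apply (g : Γ) (y : F) : e.ga g y = e.ρ g ![0, y] 1 := rfl

theorem act_axis {t : Γ} (ht : t ∈ (e.T : Subgroup Γ)) (x : F) :
    e.ρ t ![x, 0] = ![e.al t x, 0] := by
  obtain ⟨b, hb⟩ := e.conj_uni ht 1
  have hb0 : b ≠ 0 := by
    rintro rfl
    rw [show uni (0 : F) = 1 from map_one (uniHom F), map_one, one_mul, mul_eq_left] at hb
    have := congrArg (fun M : SpecialLinearGroup (Fin 2) F => (M : Matrix (Fin 2) (Fin 2) F) 0 1)
      (e.σ_injective (hb.trans (map_one e.σ).symm))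
    simp [uni_coe] at this
  have h1 := congrArg (fun g => e.ρ g ![x, 0]) hb
  simp only [act_mul, e.hσ, uni_mulVec] at h1
  simp at h1
  have h2 := congrFun h1 0
  simp at h2
  rw [eq_vec (e.ρ t ![x, 0]), h2.resolve_left hb0]
  rfl

/-- The basic identity: `t` is semilinear on the axis and on the quotient by it. -/
theorem al_mul {t : Γ} (ht : t ∈ (e.T : Subgroup Γ)) :
    e.al t 1 ≠ 0 ∧ ∃ φ : F → F, φ 1 ≠ 0 ∧ ∀ a y, e.al t (a * y) = φ a * e.ga t y := by
  choose φ hφ using e.conj_uni ht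
  have key : ∀ a y, e.al t (a * y) = φ a * e.ga t y := by
    intro a y
    have h1 := congrArg (fun g => e.ρ g ![0, y] 0) (hφ a)
    simp only [act_mul, e.hσ, uni_mulVec] at h1
    simp at h1
    have h2 : e.ρ t ![a * y, y] = e.ρ t ![a * y, 0] + e.ρ t ![0, y] := by
      rw [← map_add]
      congr 1
      ext i
      fin_cases i <;> simp
    rw [h2, Pi.add_apply, e.act_axis ht] at h1
    simp at h1
    rw [ga_apply]
    linear_combination h1
  have hinj : ∀ x, e.al t x = 0 → x = 0 := by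
    intro x hx
    have h1 : e.ρ t ![x, 0] = 0 := by
      rw [e.act_axis ht, hx]
      ext i
      fin_cases i <;> rfl
    have := e.act_injective t (h1.trans (map_zero (e.ρ t)).symm)
    exact congrFun this 0
  refine ⟨fun h => one_ne_zero (hinj 1 h), φ, fun h => one_ne_zero (hinj 1 ?_), key⟩
  have := key 1 1
  rwa [h, zero_mul, one_mul] at this

theorem al_mul_mul {t : Γ} (ht : t ∈ (e.T : Subgroup Γ)) (x y : F) :
    e.al t (x * y) * e.al t 1 = e.al t x * e.al t y := by
  obtain ⟨-, φ, -, key⟩ := e.al_mul ht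
  have h1 := key x y
  have h2 := key x 1
  have h3 := key 1 y
  have h4 := key 1 1
  rw [mul_one] at h2
  rw [one_mul] at h3
  rw [mul_one] at h4
  rw [h1, h2, h3, h4]
  ring

theorem exists_mu {t : Γ} (ht : t ∈ (e.T : Subgroup Γ)) :
    ∃ μ : RingAut F, ∀ x, e.al t x = e.al t 1 * μ x := by
  have hk := (e.al_mul ht).1
  let f : F →+* F :=
    { toFun := fun x => e.al t x / e.al t 1
      map_one' := div_self hk
      map_mul' := fun x y => by
        rw [div_mul_div_comm, ← e.al_mul_mul ht x y, mul_div_mul_right _ _ hk]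
      map_zero' := by rw [map_zero, zero_div]
      map_add' := fun x y => by rw [map_add, add_div] }
  refine ⟨RingEquiv.ofBijective f (Finite.injective_iff_bijective.1 f.injective), fun x => ?_⟩
  show e.al t x = e.al t 1 * (e.al t x / e.al t 1)
  rw [mul_div_cancel₀ _ hk]

/-- The field automorphism of an element of `T`. -/
noncomputable def mu : (e.T : Subgroup Γ) →* RingAut F :=
  MonoidHom.mk' (fun t => (e.exists_mu t.2).choose) fun s t => by
    have hs := (e.exists_mu s.2).choose_spec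
    have ht := (e.exists_mu t.2).choose_spec
    have hst := (e.exists_mu (s * t).2).choose_spec
    set μs := (e.exists_mu s.2).choose
    set μt := (e.exists_mu t.2).choose
    refine RingEquiv.ext fun x => ?_
    have hc : ∀ y, e.al ((s * t : (e.T : Subgroup Γ)) : Γ) y = e.al s (e.al t y) := by
      intro y
      rw [Subgroup.coe_mul, al_apply, act_mul, e.act_axis t.2, al_apply]
      rfl
    refine mul_left_cancel₀ (e.al_mul (s * t).2).1 ?_
    rw [← hst x, hc, hc, ht x, hs (_ * _), map_mul, hs (e.al (t : Γ) 1)]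
    show _ = e.al (s : Γ) 1 * μs (e.al (t : Γ) 1) * μs (μt x)
    ring

theorem al_eq {t : Γ} (ht : t ∈ (e.T : Subgroup Γ)) (x : F) :
    e.al t x = e.al t 1 * e.mu ⟨t, ht⟩ x := (e.exists_mu ht).choose_spec x

/-- Elements of `T` fixing the axis lie in `U`. -/
theorem mem_U_of_fix {t : Γ} (ht : t ∈ (e.T : Subgroup Γ)) (hfix : ∀ x, e.al t x = x) : t ∈ e.U := by
  obtain ⟨-, φ, hφ1, key⟩ := e.al_mul ht
  set d := e.ga t 1 with hd
  have hga : ∀ y, e.ga t y = y * d := by
    intro y
    have h1 := key 1 y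
    have h4 := key 1 1
    rw [one_mul, hfix] at h1
    rw [mul_one, hfix] at h4
    calc e.ga t y = (φ 1 * d) * e.ga t y := by rw [hd, ← h4, one_mul]
      _ = d * (φ 1 * e.ga t y) := by ring
      _ = y * d := by rw [← h1]; ring
  set β : F → F := fun y => e.ρ t ![0, y] 0 with hβ
  have hact : ∀ x y, e.ρ t ![x, y] = ![x + β y, y * d] := by
    intro x y
    rw [show ![x, y] = ![x, (0 : F)] + ![0, y] by ext i; fin_cases i <;> simp, map_add,
      e.act_axis ht, hfix, eq_vec (e.ρ t ![0, y]), ← hga]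
    ext i
    fin_cases i <;> simp [hβ, ga_apply]
  -- powers scale the quotient by powers of `d`
  have hd1 : d = 1 := by
    have hpow : ∀ n : ℕ, ∀ x y, e.ρ (t ^ n) ![x, y] 1 = y * d ^ n := by
      intro n
      induction n with
      | zero => intro x y; rw [pow_zero, act_one, pow_zero, mul_one]; rfl
      | succ n ih =>
        intro x y
        rw [pow_succ, act_mul, hact, ih, pow_succ']
        ring
    obtain ⟨k, hk⟩ := e.T.isPGroup' ⟨t, ht⟩
    have hk' : t ^ p ^ k = 1 := congrArg Subtype.val hk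
    have h1 := hpow (p ^ k) 0 1
    rw [hk', act_one, one_mul] at h1
    have h2 : (d - 1) ^ p ^ k = 0 := by
      rw [sub_pow_char_pow, one_pow, ← h1]
      simp
    exact sub_eq_zero.1 (pow_eq_zero_iff (pow_ne_zero _ hp.out.ne_zero) |>.1 h2)
  -- conjugating a lower unitriangular matrix gives linearity
  let low : SpecialLinearGroup (Fin 2) F := ⟨!![1, 0; 1, 1], by simp [Matrix.det_fin_two]⟩
  obtain ⟨B, hB⟩ := e.hT t ht low
  have hlow : ∀ x y : F, (low : Matrix (Fin 2) (Fin 2) F) *ᵥ ![x, y] = ![x, x + y] := by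
    intro x y
    ext i
    fin_cases i <;> simp [low, Matrix.mulVec, dotProduct, Fin.sum_univ_two]
  have heq : ∀ x y : F, ![x + β (x + y), x + y] =
      (B : Matrix (Fin 2) (Fin 2) F) *ᵥ ![x + β y, y] := by
    intro x y
    have h1 : t * e.σ low = e.σ B * t := by rw [← hB]; group
    have h2 := congrArg (fun g => e.ρ g ![x, y]) h1
    simp only [act_mul, e.hσ, hlow, hact, hd1, mul_one] at h2
    exact h2
  have b10 : (B : Matrix (Fin 2) (Fin 2) F) 1 0 = 1 := by
    have := congrFun (heq 1 0) 1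
    have hβ0 : β 0 = 0 := by
      rw [hβ]
      show e.ρ t ![0, (0 : F)] 0 = 0
      rw [show ![(0 : F), 0] = 0 by ext i; fin_cases i <;> rfl, map_zero]
      rfl
    simp [Matrix.mulVec, dotProduct, Fin.sum_univ_two, hβ0] at this
    exact this.symm
  set k := 1 - (B : Matrix (Fin 2) (Fin 2) F) 1 1 with hk
  have hlin : ∀ y, β y = k * y := by
    intro y
    have := congrFun (heq 0 y) 1
    simp [Matrix.mulVec, dotProduct, Fin.sum_univ_two, b10] at this
    rw [hk]
    linear_combination -this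
  refine e.mem_U.2 ⟨k, e.ext_act fun w => ?_⟩
  rw [e.hσ, uni_mulVec, eq_vec w, hact, hd1, mul_one, hlin]
  rfl

theorem ker_mu_le {t : (e.T : Subgroup Γ)} (h : e.mu t = 1) : (t : Γ) ∈ e.U := by
  obtain ⟨c, hc, hfix⟩ := e.exists_fixed_vec
  refine e.mem_U_of_fix t.2 fun x => ?_
  have hal : ∀ x, e.al (t : Γ) x = e.al (t : Γ) 1 * x := by
    intro x
    rw [e.al_eq t.2 x]
    show _ * (e.mu t) x = _
    rw [h]
    rfl
  have h1 : e.al (t : Γ) c = c := by
    rw [al_apply, hfix _ t.2]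
    rfl
  have h2 : e.al (t : Γ) 1 = 1 := mul_right_cancel₀ hc (by rw [one_mul, ← hal, h1])
  rw [hal, h2, one_mul]

theorem ringAut_eq_one_of_prime (hq : Fintype.card F = p) (μ : RingAut F) : μ = 1 := by
  haveI := ringChar.of_eq (ringChar.eq F p)
  refine RingEquiv.ext fun x => ?_
  obtain ⟨n, rfl⟩ : ∃ n : ℕ, (n : F) = x := by
    obtain ⟨a, ha⟩ := ((Fintype.bijective_iff_injective_and_card (ZMod.castHom dvd_rfl F)).2
      ⟨ZMod.castHom_injective F, by rw [ZMod.card, hq]⟩).2 x
    refine ⟨a.val, ?_⟩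
    rw [← ha, ZMod.castHom_apply, ZMod.natCast_val]
  exact map_natCast μ n

/-- An elementary subgroup of the automorphisms has order at most `p`. -/
theorem card_le_p (E : Subgroup (RingAut F)) (hE : ∀ x ∈ E, x ^ p = 1) : Nat.card E ≤ p := by
  letI : Algebra (ZMod p) F := ZMod.algebra F p
  let f : RingAut F →* (F ≃ₐ[ZMod p] F) :=
    { toFun := fun μ => AlgEquiv.ofRingEquiv (f := μ) fun a => by
        obtain ⟨n, rfl⟩ := ZMod.natCast_zmod_surjective a
        rw [map_natCast, map_natCast]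
      map_one' := AlgEquiv.ext fun _ => rfl
      map_mul' := fun _ _ => AlgEquiv.ext fun _ => rfl }
  have hf : Function.Injective f := fun a b h => RingEquiv.ext fun x => AlgEquiv.congr_fun h x
  haveI : IsCyclic (RingAut F) := isCyclic_of_injective f hf
  haveI : Finite (RingAut F) := Finite.of_injective f hf
  rw [← IsCyclic.exponent_eq_card (α := E)]
  refine Nat.le_of_dvd hp.out.pos (Monoid.exponent_dvd_of_forall_pow_eq_one fun x => ?_)
  exact Subtype.ext (hE x x.2)

theorem pow_p {g x : Γ} (hx : x ∈ e.Uc g) : x ^ p = 1 := by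
  obtain ⟨y, hy, rfl⟩ := hx
  obtain ⟨a, rfl⟩ := hy
  rw [← map_pow, ← map_pow]
  have : a ^ p = 1 := Multiplicative.toAdd.injective (by
    rw [toAdd_pow, nsmul_eq_mul, CharP.cast_eq_zero, zero_mul]
    rfl)
  rw [this, map_one, map_one]

/-- A subgroup of exponent `p` of `T` meeting `U` trivially has order at most `p`. -/
theorem card_le_of_disjoint {X : Subgroup Γ} (hXT : X ≤ (e.T : Subgroup Γ)) (hXp : ∀ x ∈ X, x ^ p = 1)
    (hd : ∀ x ∈ X, x ∈ e.U → x = 1) :
    Nat.card X ≤ p ∧ (Fintype.card F = p → X = ⊥) := by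
  have hinj : Function.Injective (e.mu.comp (Subgroup.inclusion hXT)) := by
    rw [← MonoidHom.ker_eq_bot_iff, Subgroup.eq_bot_iff_forall]
    intro x hx
    exact Subtype.ext (hd _ x.2 (e.ker_mu_le hx))
  refine ⟨?_, fun hq => (Subgroup.eq_bot_iff_forall X).2 fun x hx => ?_⟩
  · rw [Nat.card_congr (MonoidHom.ofInjective hinj).toEquiv]
    refine card_le_p _ ?_
    rintro _ ⟨x, rfl⟩
    rw [← map_pow]
    have : x ^ p = 1 := Subtype.ext (hXp _ x.2)
    rw [this, map_one]
  · have h1 : e.mu.comp (Subgroup.inclusion hXT) ⟨x, hx⟩ = e.mu.comp (Subgroup.inclusion hXT) 1 := by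
      rw [map_one]
      exact ringAut_eq_one_of_prime hq _
    exact congrArg Subtype.val (hinj h1)

/-- `U` is the only conjugate of itself in `T`. -/
theorem weaklyClosed {g : Γ} (h : e.Uc g ≤ (e.T : Subgroup Γ)) : e.Uc g = e.U := by
  by_cases hd : ∀ x ∈ e.Uc g, x ∈ e.U → x = 1
  · exfalso
    obtain ⟨h1, h2⟩ := e.card_le_of_disjoint h (fun x => e.pow_p) hd
    rw [e.card_Uc g] at h1
    obtain ⟨n, hn⟩ := FiniteField.card F p
    have hq : Fintype.card F = p := le_antisymm h1 (hn.2 ▸ Nat.le_self_pow n.2.ne' p)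
    have h3 := e.card_Uc g
    rw [h2 hq, Subgroup.card_bot] at h3
    exact (Fintype.one_lt_card (α := F)).ne h3
  · push Not at hd
    obtain ⟨x, hx, hxU, hx1⟩ := hd
    have hl : ∀ w, w ∈ e.line g ↔ w ∈ ell0 F := fun w => by
      rw [← e.fix_Uc hx hx1, e.fix_U hxU hx1]
    refine Subgroup.eq_of_le_of_card_ge ?_ (by rw [card_U, card_Uc])
    intro y hy
    refine e.mem_U_of_fix (h hy) fun z => ?_
    rw [al_apply, e.Uc_fixes hy ((hl _).2 rfl)]
    rfl

theorem exists_conj_le_T {P : Subgroup Γ} (hP : IsPGroup p P) :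
    ∃ h : Γ, P.map (MulAut.conj h).toMonoidHom ≤ (e.T : Subgroup Γ) := by
  obtain ⟨Q, hQ⟩ := hP.exists_le_sylow
  obtain ⟨h, hh⟩ := MulAction.exists_smul_eq Γ Q e.T
  refine ⟨h, ?_⟩
  rintro _ ⟨x, hx, rfl⟩
  rw [← hh, Sylow.coe_subgroup_smul]
  exact ⟨x, hQ hx, rfl⟩

theorem isPGroup_Uc (g : Γ) : IsPGroup p (e.Uc g) := fun x => ⟨1, Subtype.ext (by
  rw [pow_one, Subgroup.coe_pow, e.pow_p x.2]; rfl)⟩

/-- Conjugates of `U` in one `p`-subgroup coincide. -/
theorem Uc_eq_of_mem {g h : Γ} {P : Subgroup Γ} (hP : IsPGroup p P) (hg : e.Uc g ≤ P)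
    (hh : e.Uc h ≤ P) : e.Uc g = e.Uc h := by
  obtain ⟨k, hk⟩ := e.exists_conj_le_T hP
  refine Subgroup.map_injective (f := (MulAut.conj k).toMonoidHom) (MulAut.conj k).injective ?_
  rw [map_Uc, map_Uc,
    e.weaklyClosed (by rw [← map_Uc]; exact (Subgroup.map_mono hg).trans hk),
    e.weaklyClosed (by rw [← map_Uc]; exact (Subgroup.map_mono hh).trans hk)]

/-- The line determines the conjugate. -/
theorem Uc_eq_of_line_eq {g h : Γ} (H : e.line g = e.line h) : e.Uc g = e.Uc h := by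
  have hc : ∀ x ∈ e.Uc g, ∀ y ∈ e.Uc h, x * y = y * x := by
    intro x hx y hy
    refine e.ext_act fun w => ?_
    have h1 : e.ρ x (e.ρ y w) = e.ρ x w + (e.ρ y w - w) := by
      conv_lhs => rw [show e.ρ y w = w + (e.ρ y w - w) by abel, map_add,
        e.Uc_fixes hx (H.ge (e.Uc_sub hy w))]
    have h2 : e.ρ y (e.ρ x w) = e.ρ y w + (e.ρ x w - w) := by
      conv_lhs => rw [show e.ρ x w = w + (e.ρ x w - w) by abel, map_add,
        e.Uc_fixes hy (H.le (e.Uc_sub hx w))]
    rw [act_mul, act_mul, h1, h2]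
    abel
  have hn : e.Uc h ≤ Subgroup.normalizer (e.Uc g : Set Γ) := by
    intro y hy
    rw [Subgroup.mem_normalizer_iff]
    intro x
    constructor
    · intro hx
      rwa [← hc x hx y hy, mul_inv_cancel_right]
    · intro hx
      have := hc _ hx y hy
      have h2 : x = y * x * y⁻¹ := by
        calc x = y⁻¹ * (y * x * y⁻¹ * y) := by group
          _ = y⁻¹ * (y * (y * x * y⁻¹)) := by rw [this]
          _ = y * x * y⁻¹ := by group
      exact h2 ▸ hx
  exact e.Uc_eq_of_mem ((e.isPGroup_Uc g).to_sup_of_normal_left' (e.isPGroup_Uc h) hn)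
    le_sup_left le_sup_right

/-- Fixed points of a semilinear map are at most as many as those of its automorphism. -/
theorem card_fixed_le (k : F) (μ : RingAut F) :
    Nat.card {x : F // k * μ x = x} ≤ Nat.card {x : F // μ x = x} := by
  by_cases h : ∃ x₀ : F, x₀ ≠ 0 ∧ k * μ x₀ = x₀
  · obtain ⟨x₀, hne, hx₀⟩ := h
    have hk : k ≠ 0 := fun h0 => hne (by rw [← hx₀, h0, zero_mul])
    refine Nat.card_le_card_of_injective (fun x => ⟨(x : F) / x₀, ?_⟩) fun x y hxy => Subtype.ext ?_
    · rw [map_div₀]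
      conv_rhs => rw [← x.2, ← hx₀, mul_div_mul_left _ _ hk]
    · exact (div_left_inj' hne).1 (congrArg Subtype.val hxy)
  · push Not at h
    refine Nat.card_le_card_of_injective (fun _ => ⟨0, map_zero μ⟩) fun x y _ => Subtype.ext ?_
    have h1 : ∀ z : {x : F // k * μ x = x}, (z : F) = 0 := fun z => by
      by_contra hz
      exact h _ hz z.2
    rw [h1 x, h1 y]

/-- An element of order `p` outside `U` fixing `|F|` vectors forces `p = 2`. -/
theorem eq_two_of_fixed {t : Γ} (ht : t ∈ (e.T : Subgroup Γ)) (htU : t ∉ e.U) (htp : t ^ p = 1)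
    {g : Γ} (hfix : ∀ w ∈ e.line g, e.ρ t w = w) : p = 2 := by
  set μ := e.mu ⟨t, ht⟩ with hμ
  have hμ1 : μ ≠ 1 := fun h => htU (e.ker_mu_le h)
  have hord : orderOf μ = p := orderOf_eq_prime (by
    rw [hμ, ← map_pow, show (⟨t, ht⟩ : (e.T : Subgroup Γ)) ^ p = 1 from Subtype.ext htp, map_one]) hμ1
  let F₀ : Subfield F := RingHom.eqLocusField μ.toRingHom (RingHom.id F)
  haveI : FiniteDimensional F₀ F := Module.Finite.of_finite
  have hF₀ : Nat.card {x : F // μ x = x} = Nat.card F₀ := rfl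
  -- the degree over the fixed field is at least `p`
  let μ' : F ≃ₐ[F₀] F := AlgEquiv.ofRingEquiv (f := μ) fun a => a.2
  have hdeg : p ≤ Module.finrank F₀ F := by
    have h1 : orderOf μ' = p := by
      refine orderOf_eq_prime ?_ fun h => hμ1 (RingEquiv.ext fun x => AlgEquiv.congr_fun h x)
      refine AlgEquiv.ext fun x => ?_
      have hpow : ∀ n : ℕ, (μ' ^ n) x = (μ ^ n) x := by
        intro n
        induction n generalizing x with
        | zero => rfl
        | succ n ih =>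
          rw [pow_succ, pow_succ, AlgEquiv.mul_apply]
          exact ih _
      rw [hpow, ← hord, pow_orderOf_eq_one]
      rfl
    calc p = orderOf μ' := h1.symm
      _ ≤ Fintype.card (F ≃ₐ[F₀] F) := orderOf_le_card_univ
      _ ≤ _ := AlgEquiv.card_le
  have hcardF : Fintype.card F = Nat.card F₀ ^ Module.finrank F₀ F := by
    rw [← Nat.card_eq_fintype_card, Module.natCard_eq_pow_finrank (K := F₀)]
  -- at most `|F₀|²` vectors are fixed
  obtain ⟨hk, φ, hφ1, key⟩ := e.al_mul ht
  have hga : ∀ y, e.ga t y = e.al t 1 / φ 1 * μ y := fun y => by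
    have := key 1 y
    rw [one_mul, e.al_eq ht] at this
    rw [div_mul_eq_mul_div, hμ, this, mul_div_cancel_left₀ _ hφ1]
  let π : e.line g →+ F := ((Pi.evalAddMonoidHom (fun _ : Fin 2 => F) 1).comp (e.line g).subtype)
  have hsq : Fintype.card F ≤ Nat.card F₀ * Nat.card F₀ := by
    rw [← e.card_line g, ← AddSubgroup.card_mul_index π.ker, AddSubgroup.index_ker]
    refine Nat.mul_le_mul ?_ ?_
    · refine le_trans ?_ ((card_fixed_le (e.al t 1) μ).trans hF₀.le)
      refine Nat.card_le_card_of_injective (fun w => ⟨((w : e.line g) : Fin 2 → F) 0, ?_⟩)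
        fun v w h => ?_
      · have h1 := hfix _ (w : e.line g).2
        have hw : ((w : e.line g) : Fin 2 → F) 1 = 0 := w.2
        rw [eq_vec ((w : e.line g) : Fin 2 → F), hw, e.act_axis ht] at h1
        have := congrFun h1 0
        simp at this
        rw [← e.al_eq ht]
        exact this
      · have hv : ((v : e.line g) : Fin 2 → F) 1 = 0 := v.2
        have hw : ((w : e.line g) : Fin 2 → F) 1 = 0 := w.2
        refine Subtype.ext (Subtype.ext ?_)
        rw [eq_vec ((v : e.line g) : Fin 2 → F), eq_vec ((w : e.line g) : Fin 2 → F), hv, hw,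
          show ((v : e.line g) : Fin 2 → F) 0 = ((w : e.line g) : Fin 2 → F) 0 from
            congrArg Subtype.val h]
    · refine le_trans ?_ ((card_fixed_le (e.al t 1 / φ 1) μ).trans hF₀.le)
      refine Nat.card_le_card_of_injective (fun y => ⟨(y : F), ?_⟩)
        fun v w h => Subtype.ext (congrArg Subtype.val h :)
      obtain ⟨y, w, rfl⟩ := y
      have h1 := hfix _ w.2
      set x := (w : Fin 2 → F) with hx
      show _ * μ (x 1) = x 1
      rw [← hga, ga_apply]
      rw [show x = ![x 0, 0] + ![0, x 1] by ext i; fin_cases i <;> simp, map_add,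
        e.act_axis ht] at h1
      have := congrFun h1 1
      simpa using this
  by_contra hp2
  have h3 : 3 ≤ p := by have := hp.out.two_le; omega
  have h1 : 1 < Nat.card F₀ := Finite.one_lt_card
  have h4 : Nat.card F₀ ^ 3 ≤ Fintype.card F := hcardF ▸ Nat.pow_le_pow_right (by omega) (h3.trans hdeg)
  have : Nat.card F₀ * Nat.card F₀ * Nat.card F₀ ≤ Nat.card F₀ * Nat.card F₀ * 1 := by
    rw [mul_one]
    calc _ = Nat.card F₀ ^ 3 := by ring
      _ ≤ _ := h4.trans hsq
  have := Nat.le_of_mul_le_mul_left this (by positivity)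
  omega

/-! ### The main count -/

set_option maxHeartbeats 800000 in
/-- Two conjugate lines meet trivially, or the field has four elements. -/
theorem spread_or_four :
    (∀ g, ell0 F ⊓ e.line g ≠ ⊥ → e.line g = ell0 F) ∨ Fintype.card F = 4 := by
  classical
  haveI : Fintype Γ := Fintype.ofFinite Γ
  by_contra hcon
  push Not at hcon
  obtain ⟨⟨g₀, hg₀, hg₀'⟩, h4⟩ := hcon
  obtain ⟨g, hgs, hmax⟩ := Finset.exists_max_image
    (Finset.univ.filter fun g : Γ => ell0 F ⊓ e.line g ≠ ⊥ ∧ e.line g ≠ ell0 F)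
    (fun g => Nat.card ↥(ell0 F ⊓ e.line g)) ⟨g₀, by simp [hg₀, hg₀']⟩
  rw [Finset.mem_filter] at hgs
  obtain ⟨-, hg1, hg2⟩ := hgs
  set W0 := ell0 F ⊓ e.line g with hW0
  set w := Nat.card W0 with hw
  set q := Fintype.card F with hq
  -- translated members
  set O : Finset (AddSubgroup (Fin 2 → F)) := Finset.univ.image fun u : e.U => e.line ((u : Γ) * g)
    with hO
  have hmeet : ∀ u ∈ e.U, ell0 F ⊓ e.line (u * g) = W0 := by
    intro u hu
    ext x
    simp only [hW0, AddSubgroup.mem_inf, mem_line_mul]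
    exact and_congr_right fun hx => by rw [e.U_fixes (inv_mem hu) hx]
  have hwdvd : w ∣ q := by
    rw [hq, ← card_ell0 (F := F)]
    exact AddSubgroup.card_dvd_of_le inf_le_left
  obtain ⟨r, hr⟩ := hwdvd
  have hwpos : 0 < w := Nat.card_pos
  have hw1 : 2 ≤ w := by
    rw [hw]
    have := (AddSubgroup.one_lt_card_iff_ne_bot W0).2 hg1
    omega
  have hr2 : 2 ≤ r := by
    rcases Nat.lt_or_ge r 2 with h | h
    · exfalso
      apply hg2
      have hwq : q ≤ w := by rw [hr]; nlinarith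
      have h1 : W0 = ell0 F := AddSubgroup.eq_of_le_of_card_ge inf_le_left (by rw [card_ell0]; exact hwq)
      have h2 : ell0 F ≤ e.line g := h1 ▸ inf_le_right
      exact (AddSubgroup.eq_of_le_of_card_ge h2 (by rw [card_ell0, e.card_line])).symm
    · exact h
  -- the span
  let ψ : (ell0 F) × (e.line g) →+ (Fin 2 → F) :=
    AddMonoidHom.coprod (ell0 F).subtype (e.line g).subtype
  have hker : Nat.card ψ.ker = w := by
    rw [hw]
    refine Nat.card_congr
      { toFun := fun x => ⟨((x : (ell0 F) × (e.line g)).1 : Fin 2 → F), (x : (ell0 F) × (e.line g)).1.2, by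
          have h1 : ((x : (ell0 F) × (e.line g)).1 : Fin 2 → F) + ((x : (ell0 F) × (e.line g)).2 : Fin 2 → F) = 0 := x.2
          rw [eq_neg_of_add_eq_zero_left h1]
          exact (e.line g).neg_mem (x : (ell0 F) × (e.line g)).2.2⟩
        invFun := fun y => ⟨(⟨(y : Fin 2 → F), y.2.1⟩, ⟨-(y : Fin 2 → F), (e.line g).neg_mem y.2.2⟩),
          add_neg_cancel (y : Fin 2 → F)⟩
        left_inv := fun x => by
          have h1 : ((x : (ell0 F) × (e.line g)).1 : Fin 2 → F) + ((x : (ell0 F) × (e.line g)).2 : Fin 2 → F) = 0 := x.2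
          refine Subtype.ext (Prod.ext rfl (Subtype.ext ?_))
          exact (eq_neg_of_add_eq_zero_right h1).symm
        right_inv := fun y => rfl }
  have hS : Nat.card ψ.range * w = q * q := by
    have h := AddSubgroup.card_mul_index ψ.ker
    rw [AddSubgroup.index_ker, hker, Nat.card_prod, card_ell0, e.card_line] at h
    rw [mul_comm]
    exact h
  have hsub : ∀ u ∈ e.U, ∀ x ∈ e.line (u * g), x ∈ ψ.range := by
    intro u hu x hx
    rw [mem_line_mul] at hx
    refine ⟨(⟨-(e.ρ u⁻¹ x - x), neg_mem (e.U_sub (inv_mem hu) x)⟩, ⟨e.ρ u⁻¹ x, hx⟩), ?_⟩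
    show -(e.ρ u⁻¹ x - x) + e.ρ u⁻¹ x = x
    abel
  -- distinct members meet in `W0`
  have hpair : ∀ u ∈ e.U, ∀ v ∈ e.U, e.line (u * g) ≠ e.line (v * g) → ∀ x,
      x ∈ e.line (u * g) → x ∈ e.line (v * g) → x ∈ W0 := by
    intro u hu v hv hne x hxu hxv
    have hWu : W0 ≤ e.line (u * g) := (hmeet u hu).ge.trans inf_le_right
    have hWv : W0 ≤ e.line (v * g) := (hmeet v hv).ge.trans inf_le_right
    by_contra hx
    set d := g⁻¹ * u⁻¹ * v * g with hd
    have hmap : ∀ y, y ∈ e.line (u * g) ⊓ e.line (v * g) ↔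
        e.ρ (u * g)⁻¹ y ∈ ell0 F ⊓ e.line d := fun y => by
      simp only [AddSubgroup.mem_inf]
      rw [← mem_line, ← mem_line_mul, show u * g * d = v * g by rw [hd]; group]
    have hcard : Nat.card ↥(e.line (u * g) ⊓ e.line (v * g)) = Nat.card ↥(ell0 F ⊓ e.line d) :=
      Nat.card_congr
        { toFun := fun y => ⟨_, (hmap y).1 y.2⟩
          invFun := fun y => ⟨e.ρ (u * g) y, (hmap _).2 (by rw [e.act_inv_act]; exact y.2)⟩
          left_inv := fun y => Subtype.ext (e.act_act_inv _ _)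
          right_inv := fun y => Subtype.ext (e.act_inv_act _ _) }
    have hlt : w < Nat.card ↥(ell0 F ⊓ e.line d) := by
      rw [← hcard, hw]
      refine lt_of_not_ge fun hle => hx ?_
      rw [AddSubgroup.eq_of_le_of_card_ge (le_inf hWu hWv) hle]
      exact ⟨hxu, hxv⟩
    have hd1 : ell0 F ⊓ e.line d ≠ ⊥ := fun h => by
      rw [h, AddSubgroup.card_bot] at hlt
      omega
    have hd2 : e.line d ≠ ell0 F := fun h => hne (by
      ext y
      rw [← show u * g * d = v * g by rw [hd]; group, e.mem_line_mul (g := u * g) (h := d), h,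
        mem_line])
    exact hlt.not_ge (hmax d (by simp [hd1, hd2]))
  -- counting
  have hcount : (O.card + 1) * (q - w) + w ≤ Nat.card ψ.range := by
    set fs : AddSubgroup (Fin 2 → F) → Finset (Fin 2 → F) := fun m =>
      (Finset.univ.filter fun x => x ∈ m) with hfs
    have hfsc : ∀ m, (fs m).card = Nat.card m := fun m => by
      rw [Nat.card_eq_fintype_card, ← Fintype.card_subtype]
    have hmemO : ∀ m ∈ insert (ell0 F) O, W0 ≤ m ∧ Nat.card m = q ∧ m ≤ ψ.range := by
      intro m hm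
      rcases Finset.mem_insert.1 hm with rfl | hm
      · refine ⟨inf_le_left, card_ell0, fun x hx => ⟨(⟨x, hx⟩, 0), ?_⟩⟩
        show x + 0 = x
        rw [add_zero]
      · obtain ⟨u, -, rfl⟩ := Finset.mem_image.1 hm
        exact ⟨(hmeet u u.2).ge.trans inf_le_right, e.card_line _, hsub u u.2⟩
    have hnot : ell0 F ∉ O := by
      intro hm
      obtain ⟨u, -, hu⟩ := Finset.mem_image.1 hm
      apply hg2
      ext x
      have h1 : e.ρ (u : Γ) x ∈ e.line ((u : Γ) * g) ↔ e.ρ (u : Γ) x ∈ ell0 F := by rw [hu]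
      rw [mem_line_mul, e.act_inv_act] at h1
      rw [h1]
      exact ⟨fun h => by
        have := e.U_fixes (inv_mem u.2) h
        rw [e.act_inv_act] at this
        rwa [this], fun h => by rwa [e.U_fixes u.2 h]⟩
    have hdisj : ((insert (ell0 F) O : Finset _) : Set (AddSubgroup (Fin 2 → F))).PairwiseDisjoint
        (fun m => fs m \ fs W0) := by
      intro m hm m' hm' hne
      rw [Function.onFun, Finset.disjoint_left]
      intro x hx hx'
      simp only [Finset.mem_sdiff, hfs, Finset.mem_filter, Finset.mem_univ, true_and] at hx hx'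
      apply hx.2
      rcases Finset.mem_insert.1 (Finset.mem_coe.1 hm) with rfl | hm <;>
        rcases Finset.mem_insert.1 (Finset.mem_coe.1 hm') with rfl | hm'
      · exact absurd rfl hne
      · obtain ⟨u, -, rfl⟩ := Finset.mem_image.1 hm'
        exact (hmeet u u.2).le ⟨hx.1, hx'.1⟩
      · obtain ⟨u, -, rfl⟩ := Finset.mem_image.1 hm
        exact (hmeet u u.2).le ⟨hx'.1, hx.1⟩
      · obtain ⟨u, -, rfl⟩ := Finset.mem_image.1 hm
        obtain ⟨v, -, rfl⟩ := Finset.mem_image.1 hm'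
        exact hpair u u.2 v v.2 hne x hx.1 hx'.1
    have hb : ((insert (ell0 F) O).biUnion fun m => fs m \ fs W0).card = (O.card + 1) * (q - w) := by
      rw [Finset.card_biUnion hdisj, ← Finset.card_insert_of_notMem hnot]
      refine Finset.sum_const_nat fun m hm => ?_
      obtain ⟨hWm, hmq, -⟩ := hmemO m hm
      rw [Finset.card_sdiff_of_subset (fun x hx => by
        simp only [hfs, Finset.mem_filter, Finset.mem_univ, true_and] at hx ⊢
        exact hWm hx), hfsc, hfsc, hmq]
    have hd' : Disjoint ((insert (ell0 F) O).biUnion fun m => fs m \ fs W0) (fs W0) := by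
      rw [Finset.disjoint_left]
      intro x hx
      obtain ⟨m, -, hm⟩ := Finset.mem_biUnion.1 hx
      exact (Finset.mem_sdiff.1 hm).2
    rw [← hb, hw, ← hfsc W0, ← Finset.card_union_of_disjoint hd', ← hfsc ψ.range]
    refine Finset.card_le_card fun x hx => ?_
    simp only [hfs, Finset.mem_filter, Finset.mem_univ, true_and]
    rcases Finset.mem_union.1 hx with hx | hx
    · obtain ⟨m, hm, hxm⟩ := Finset.mem_biUnion.1 hx
      simp only [Finset.mem_sdiff, hfs, Finset.mem_filter, Finset.mem_univ, true_and] at hxm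
      exact (hmemO m hm).2.2 hxm.1
    · simp only [hfs, Finset.mem_filter, Finset.mem_univ, true_and] at hx
      exact (hmemO _ (Finset.mem_insert_self _ _)).2.2 hx.1
  have hOr : O.card ≤ r := by
    have h1 := Nat.mul_le_mul_right w hcount
    rw [hS, add_mul, hr] at h1
    obtain ⟨r', rfl⟩ : ∃ r', r = r' + 1 := ⟨r - 1, by omega⟩
    rw [show w * (r' + 1) - w = w * r' by rw [mul_add, mul_one, Nat.add_sub_cancel]] at h1
    have h2 : w * w * ((O.card + 1) * r' + 1) ≤ w * w * ((r' + 1) * (r' + 1)) := by linarith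
    have h3 := Nat.le_of_mul_le_mul_left h2 (by positivity)
    have h4 : (O.card + 1) * r' ≤ (r' + 2) * r' := by linarith
    have h5 := Nat.le_of_mul_le_mul_right h4 (by omega)
    omega
  -- the stabilizer in `U`
  let K : Subgroup Γ :=
    { carrier := {u | u ∈ e.U ∧ e.line (u * g) = e.line g}
      one_mem' := ⟨one_mem _, by rw [one_mul]⟩
      mul_mem' := fun {a b} ha hb => ⟨mul_mem ha.1 hb.1, by
        ext x
        rw [mul_assoc, mem_line_mul, hb.2, ← mem_line_mul, ha.2]⟩
      inv_mem' := fun {a} ha => ⟨inv_mem ha.1, by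
        ext x
        rw [mem_line_mul, inv_inv]
        have h1 : e.ρ a x ∈ e.line (a * g) ↔ e.ρ a x ∈ e.line g := by rw [ha.2]
        rw [mem_line_mul, e.act_inv_act] at h1
        exact h1.symm⟩ }
  have hmemK : ∀ {u : Γ}, u ∈ K ↔ u ∈ e.U ∧ e.line (u * g) = e.line g := Iff.rfl
  have hqK : q ≤ O.card * Nat.card K := by
    have hsec : ∀ u : e.U, ∃ v : e.U, e.line ((v : Γ) * g) = e.line ((u : Γ) * g) := fun u => ⟨u, rfl⟩
    let rep : O → e.U := fun m => (Finset.mem_image.1 m.2).choose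
    have hrep : ∀ m : O, e.line ((rep m : Γ) * g) = (m : AddSubgroup (Fin 2 → F)) :=
      fun m => (Finset.mem_image.1 m.2).choose_spec.2
    let mk : e.U → O := fun u => ⟨_, Finset.mem_image.2 ⟨u, Finset.mem_univ _, rfl⟩⟩
    have hk : ∀ u : e.U, (rep (mk u) : Γ)⁻¹ * u ∈ K := fun u => hmemK.2 ⟨mul_mem (inv_mem (rep _).2) u.2, by
      ext x
      rw [mul_assoc, mem_line_mul, inv_inv]
      have h1 := hrep (mk u)
      rw [show ((mk u : O) : AddSubgroup (Fin 2 → F)) = e.line ((u : Γ) * g) from rfl] at h1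
      rw [← h1, mem_line_mul, e.act_inv_act]⟩
    rw [hq, ← e.card_U, ← Fintype.card_coe O, ← Nat.card_eq_fintype_card, ← Nat.card_prod]
    refine Nat.card_le_card_of_injective (fun u => (mk u, ⟨_, hk u⟩)) fun u v huv => ?_
    obtain ⟨h1, h2⟩ := Prod.ext_iff.1 huv
    have h3 : (rep (mk u) : Γ)⁻¹ * u = (rep (mk v) : Γ)⁻¹ * v := congrArg Subtype.val h2
    simp only at h1
    rw [h1] at h3
    exact Subtype.ext (mul_left_cancel h3)
  have hKn : K ≤ Subgroup.normalizer (e.Uc g : Set Γ) := by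
    intro u hu
    rw [Subgroup.mem_normalizer_iff_map_conj_eq]
    exact (e.map_Uc u g).trans (e.Uc_eq_of_line_eq (hmemK.1 hu).2)
  have hKp : ∀ u ∈ K, u ^ p = 1 := fun u hu => e.pow_p (g := 1) (by rw [e.Uc_one]; exact (hmemK.1 hu).1)
  have hKP : IsPGroup p ((e.Uc g ⊔ K : Subgroup Γ)) :=
    (e.isPGroup_Uc g).to_sup_of_normal_left' (fun x => ⟨1, Subtype.ext (by
      rw [pow_one, Subgroup.coe_pow, hKp _ x.2]; rfl)⟩) hKn
  obtain ⟨h, hh⟩ := e.exists_conj_le_T hKP
  have hhg : e.Uc (h * g) = e.U := e.weaklyClosed (by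
    rw [← map_Uc]
    exact (Subgroup.map_mono le_sup_left).trans hh)
  have hl1 : e.line (h * g) = ell0 F := by
    rw [← e.line_one]
    exact e.line_eq_of_Uc_eq (by rw [hhg, e.Uc_one])
  have hlh : e.line h ≠ ell0 F := fun hl => hg2 (by
    ext x
    have h1 : e.ρ h x ∈ e.line (h * g) ↔ e.ρ h x ∈ e.line h := by rw [hl1, hl]
    rw [mem_line_mul, e.act_inv_act, e.mem_line (g := h), e.act_inv_act] at h1
    exact h1)
  set K' := K.map (MulAut.conj h).toMonoidHom with hK'
  have hK'T : K' ≤ (e.T : Subgroup Γ) := (Subgroup.map_mono le_sup_right).trans hh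
  have hK'U : ∀ x ∈ K', x ∈ e.Uc h := by
    rintro _ ⟨u, hu, rfl⟩
    exact ⟨u, (hmemK.1 hu).1, rfl⟩
  have hK'd : ∀ x ∈ K', x ∈ e.U → x = 1 := by
    intro x hx hxU
    by_contra hx1
    apply hlh
    ext z
    rw [← e.fix_Uc (hK'U x hx) hx1, e.fix_U hxU hx1]
  obtain ⟨hKle, hKprime⟩ := e.card_le_of_disjoint hK'T (fun x hx => e.pow_p (hK'U x hx)) hK'd
  have hcK : Nat.card K' = Nat.card K := Subgroup.card_map_of_injective (MulAut.conj h).injective
  rw [hcK] at hKle
  have hKge : w ≤ Nat.card K := by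
    have h1 : w * r ≤ Nat.card K * r := by
      rw [← hr]
      calc q ≤ O.card * Nat.card K := hqK
        _ ≤ r * Nat.card K := Nat.mul_le_mul_right _ hOr
        _ = _ := mul_comm _ _
    exact Nat.le_of_mul_le_mul_right h1 (by omega)
  obtain ⟨u₀, hu₀, hu₀1⟩ := K.bot_or_exists_ne_one.resolve_left fun hb => by
    rw [hb, Subgroup.card_bot] at hKge
    omega
  have hp2 : p = 2 := by
    refine e.eq_two_of_fixed (t := h * u₀ * h⁻¹) (hK'T ⟨u₀, hu₀, rfl⟩) (fun hU => hu₀1 ?_)
      (e.pow_p (hK'U _ ⟨u₀, hu₀, rfl⟩)) (g := h) fun z hz => e.Uc_fixes (hK'U _ ⟨u₀, hu₀, rfl⟩) hz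
    have h1 : h * u₀ * h⁻¹ = 1 := hK'd _ ⟨u₀, hu₀, rfl⟩ hU
    calc u₀ = h⁻¹ * (h * u₀ * h⁻¹) * h := by group
      _ = 1 := by rw [h1]; group
  have hw2 : w = 2 := by omega
  -- `u₀` squeezes the line into `W0`
  obtain ⟨hu₀U, hu₀l⟩ := hmemK.1 hu₀
  let δ : e.line g →+ W0 := (((e.ρ u₀ - 1 : AddMonoid.End (Fin 2 → F))).comp (e.line g).subtype).codRestrict W0
    fun x => ⟨e.U_sub hu₀U x, (e.line g).sub_mem (hu₀l.le (e.mem_line_mul.2 (by
      show e.ρ u₀⁻¹ (e.ρ u₀ (x : Fin 2 → F)) ∈ _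
      rw [e.act_inv_act]
      exact x.2))) x.2⟩
  have hδk : Nat.card δ.ker ≤ w := by
    rw [hw]
    refine Nat.card_le_card_of_injective (fun x => ⟨((x : e.line g) : Fin 2 → F), ?_, (x : e.line g).2⟩)
      fun a b hab => Subtype.ext (Subtype.ext (congrArg Subtype.val hab :))
    refine (e.fix_U hu₀U hu₀1).1 ?_
    have h1 : ((δ (x : e.line g) : W0) : Fin 2 → F) = 0 := by rw [x.2]; rfl
    exact sub_eq_zero.1 h1
  have hq4 : q ≤ 4 := by
    have h := AddSubgroup.card_mul_index δ.ker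
    rw [AddSubgroup.index_ker, e.card_line] at h
    have h1 : Nat.card δ.range ≤ w := by rw [hw]; exact AddSubgroup.card_le_card_addGroup δ.range
    calc q = _ := h.symm
      _ ≤ w * w := Nat.mul_le_mul hδk h1
      _ = 4 := by rw [hw2]
  obtain ⟨n, hn⟩ := FiniteField.card F p
  have hqn : q = 2 ^ (n : ℕ) := by rw [hq, hn.2, hp2]
  have hqp : q ≠ p := fun hqp => hu₀1 (by
    have := hKprime hqp
    have h2 : h * u₀ * h⁻¹ = 1 := (Subgroup.eq_bot_iff_forall _).1 this _ ⟨u₀, hu₀, rfl⟩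
    calc u₀ = h⁻¹ * (h * u₀ * h⁻¹) * h := by group
      _ = 1 := by rw [h2]; group)
  apply h4
  have hn1 := n.pos
  rcases Nat.lt_trichotomy (n : ℕ) 2 with hlt | heq | hgt
  · exfalso
    apply hqp
    rw [hqn, show (n : ℕ) = 1 by omega, hp2, pow_one]
  · simp [hqn, heq]
  · have : 2 ^ 3 ≤ 2 ^ (n : ℕ) := Nat.pow_le_pow_right (by norm_num) hgt
    omega

/-- If lines meet trivially, every conjugate of `U` lies in the copy of `SL₂`. -/
theorem Uc_le_range (hs : ∀ g, ell0 F ⊓ e.line g ≠ ⊥ → e.line g = ell0 F) (g : Γ) :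
    e.Uc g ≤ e.σ.range := by
  set v := e.ρ g ![1, 0] with hv
  have hv0 : v ≠ 0 := fun h => by
    have := e.act_injective g (h.trans (map_zero (e.ρ g)).symm)
    exact one_ne_zero (congrFun this 0)
  obtain ⟨A, hA⟩ : ∃ A : SpecialLinearGroup (Fin 2) F, (A : Matrix (Fin 2) (Fin 2) F) *ᵥ ![1, 0] = v := by
    by_cases h0 : v 0 = 0
    · have h1 : v 1 ≠ 0 := fun h => hv0 (by rw [eq_vec v, h0, h]; ext i; fin_cases i <;> rfl)
      refine ⟨⟨!![0, -(v 1)⁻¹; v 1, 0], by simp [Matrix.det_fin_two, h1]⟩, ?_⟩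
      ext i
      fin_cases i <;> simp [h0]
    · refine ⟨⟨!![v 0, 0; v 1, (v 0)⁻¹], by simp [Matrix.det_fin_two, h0]⟩, ?_⟩
      ext i
      fin_cases i <;> simp
  set d := (e.σ A)⁻¹ * g with hd
  have hmem : ![(1 : F), 0] ∈ e.line d := by
    rw [hd, mem_line_mul, inv_inv, e.hσ, hA, mem_line, hv, e.act_inv_act]
    rfl
  have hl : e.line d = e.line 1 := by
    rw [e.line_one]
    refine hs d fun h => ?_
    have : ![(1 : F), 0] ∈ ell0 F ⊓ e.line d := ⟨rfl, hmem⟩
    rw [h, AddSubgroup.mem_bot] at this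
    exact one_ne_zero (congrFun this 0)
  intro x hx
  have hU : e.Uc d = e.U := (e.Uc_eq_of_line_eq hl).trans e.Uc_one
  have h1 : (e.σ A)⁻¹ * x * e.σ A ∈ e.U := by
    rw [← hU, mem_Uc, hd]
    have := e.mem_Uc.1 hx
    simpa [mul_assoc] using this
  obtain ⟨a, ha⟩ := e.mem_U.1 h1
  exact ⟨A * uni a * A⁻¹, by rw [map_mul, map_mul, map_inv, ha]; group⟩

theorem range_normal (hs : ∀ g, ell0 F ⊓ e.line g ≠ ⊥ → e.line g = ell0 F) : e.σ.range.Normal := by
  classical
  refine ⟨?_⟩
  rintro _ ⟨A, rfl⟩ g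
  refine CfsgLib.Linear.SL_transvection_induction
    (fun A => g * e.σ A * g⁻¹ ∈ e.σ.range) (by simp) ?_ ?_ A
  · intro i j hij c
    have key : ∀ (C : SpecialLinearGroup (Fin 2) F) (a : F),
        g * e.σ (C * uni a * C⁻¹) * g⁻¹ ∈ e.σ.range := by
      intro C a
      refine e.Uc_le_range hs (g * e.σ C) ?_
      rw [mem_Uc, map_mul, map_mul, map_inv]
      rw [show (g * e.σ C)⁻¹ * (g * (e.σ C * e.σ (uni a) * (e.σ C)⁻¹) * g⁻¹) * (g * e.σ C) = e.σ (uni a) by group]
      exact e.mem_U.2 ⟨a, rfl⟩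
    by_cases hi : i = 0
    · have hj : j = 1 := by omega
      subst hi hj
      have he : SpecialLinearGroup.transvection hij c = 1 * uni c * 1⁻¹ := by
        refine Subtype.ext ?_
        rw [inv_one, one_mul, mul_one, uni_coe]
        ext a b
        fin_cases a <;> fin_cases b <;> simp [SpecialLinearGroup.transvection, Matrix.transvection]
      rw [he]
      exact key 1 c
    · have hi' : i = 1 := by omega
      have hj : j = 0 := by omega
      subst hi' hj
      let w : SpecialLinearGroup (Fin 2) F := ⟨!![0, 1; -1, 0], by simp [Matrix.det_fin_two]⟩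
      have he : SpecialLinearGroup.transvection hij c = w * uni (-c) * w⁻¹ := by
        rw [eq_mul_inv_iff_mul_eq]
        refine Subtype.ext ?_
        show (SpecialLinearGroup.transvection hij c : Matrix (Fin 2) (Fin 2) F) *
          (w : Matrix (Fin 2) (Fin 2) F) = (w : Matrix (Fin 2) (Fin 2) F) * !![1, -c; 0, 1]
        ext a b
        fin_cases a <;> fin_cases b <;>
          simp [SpecialLinearGroup.transvection, Matrix.transvection, w, Matrix.mul_apply, Fin.sum_univ_two]
      rw [he]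
      exact key w (-c)
  · intro A B hA hB
    have := mul_mem hA hB
    rw [map_mul]
    rwa [show g * e.σ A * g⁻¹ * (g * e.σ B * g⁻¹) = g * (e.σ A * e.σ B) * g⁻¹ by group] at this

/-- The Sylow subgroup has order at most twice `|F|` when the field has four elements. -/
theorem card_T_le (h4 : Fintype.card F = 4) : Nat.card (e.T : Subgroup Γ) ≤ 8 := by
  haveI : Finite (RingAut F) := Finite.of_injective (fun μ : RingAut F => (μ : F → F))
    fun a b h => RingEquiv.ext fun x => congrFun h x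
  classical
  have h2 : Nat.card e.mu.range ≤ 2 := by
    obtain ⟨ω, -, hω⟩ := Finset.exists_mem_notMem_of_card_lt_card (s := ({0, 1} : Finset F))
      (t := Finset.univ) (by
        rw [Finset.card_univ, h4]
        exact lt_of_le_of_lt Finset.card_le_two (by norm_num))
    simp only [Finset.mem_insert, Finset.mem_singleton, not_or] at hω
    have hne : ∀ (μ : RingAut F) (x : F), x ≠ 0 → x ≠ 1 → μ x ∈ (({0, 1} : Finset F)ᶜ) :=
      fun μ x h0 h1 => by
        simp only [Finset.mem_compl, Finset.mem_insert, Finset.mem_singleton, not_or]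
        exact ⟨fun h => h0 (μ.injective (h.trans (map_zero μ).symm)),
          fun h => h1 (μ.injective (h.trans (map_one μ).symm))⟩
    have hcard : (({0, 1} : Finset F)ᶜ).card = 2 := by
      rw [Finset.card_compl, h4, Finset.card_pair zero_ne_one]
    let f : e.mu.range → ↥(({0, 1} : Finset F)ᶜ) := fun μ =>
      ⟨(μ : RingAut F) ω, hne _ _ hω.1 hω.2⟩
    have hf : Function.Injective f := by
      intro μ ν h
      refine Subtype.ext (RingEquiv.ext fun x => ?_)
      have hμν : (μ : RingAut F) ω = (ν : RingAut F) ω := congrArg Subtype.val h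
      rcases eq_or_ne x 0 with rfl | hx0
      · rw [map_zero, map_zero]
      rcases eq_or_ne x 1 with rfl | hx1
      · rw [map_one, map_one]
      rcases eq_or_ne x ω with rfl | hxω
      · exact hμν
      have h1 : ((({0, 1} : Finset F)ᶜ).erase ((μ : RingAut F) ω)).card ≤ 1 := by
        rw [Finset.card_erase_of_mem (hne _ _ hω.1 hω.2), hcard]
      refine Finset.card_le_one.1 h1 _ (Finset.mem_erase.2 ⟨fun h => hxω ((μ : RingAut F).injective h),
        hne _ _ hx0 hx1⟩) _ (Finset.mem_erase.2 ⟨fun h => hxω ?_, hne _ _ hx0 hx1⟩)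
      rw [hμν] at h
      exact (ν : RingAut F).injective h
    calc Nat.card e.mu.range ≤ Nat.card ↥(({0, 1} : Finset F)ᶜ) := Nat.card_le_card_of_injective f hf
      _ = 2 := by rw [Nat.card_eq_fintype_card, Fintype.card_coe, hcard]
  have h1 : Nat.card e.mu.ker ≤ 4 := by
    rw [← h4, ← e.card_U]
    exact Nat.card_le_card_of_injective (fun t => (⟨((t : (e.T : Subgroup Γ)) : Γ), e.ker_mu_le t.2⟩ : e.U))
      fun a b h => Subtype.ext (Subtype.ext (congrArg Subtype.val h :))
  rw [← Subgroup.card_mul_index e.mu.ker, Subgroup.index_ker]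
  exact Nat.mul_le_mul h1 h2

end Emb

end CfsgLib.NaturalSL2Embed
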