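import Mathlib
import Cfsg.Agent.Lib.AltEight.Seven

/-!
# Subgroups of `A₈`: a subgroup of order 2520 is `A₇`, and orders divisible by `7`
-/

set_option autoImplicit false
set_option linter.style.haveILetI false

namespace CfsgLib.NaturalSL2Embed

open Equiv Equiv.Perm

/-- A group of order `2520` embedded in `A₈` is `A₇`. -/
theorem equiv_A7_of_card {Q : Type*} [Group Q] [Finite Q] (f : Q →* alternatingGroup (Fin 8))
    (hf : Function.Injective f) (hc : Nat.card Q = 2520) :
    Nonempty (Q ≃* alternatingGroup (Fin 7)) := by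
  classical
  have hA : Nat.card (alternatingGroup (Fin 8)) = 20160 := by
    rw [nat_card_alternatingGroup, Nat.card_fin]; rfl
  set R := f.range with hR
  have hRc : Nat.card R = 2520 := by
    rw [← hc]; exact Nat.card_congr (MonoidHom.ofInjective hf).toEquiv.symm
  have hRi : R.index = 8 := by
    have h := R.card_mul_index
    rw [hA, hRc] at h
    omega
  haveI : IsSimpleGroup (alternatingGroup (Fin 8)) := alternatingGroup.isSimpleGroup (by simp)
  let e : (alternatingGroup (Fin 8) ⧸ R) ≃ Fin 8 := Finite.equivFinOfCardEq hRi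
  let φ : alternatingGroup (Fin 8) →* Perm (Fin 8) :=
    e.permCongrHom.toMonoidHom.comp (MulAction.toPermHom (alternatingGroup (Fin 8)) (alternatingGroup (Fin 8) ⧸ R))
  have hφ : ∀ a x, φ a (e x) = e (a • x) := fun a x => by
    show e (a • e.symm (e x)) = _
    rw [Equiv.symm_apply_apply]
  have hinj : Function.Injective φ := by
    rw [← MonoidHom.ker_eq_bot_iff]
    refine (IsSimpleGroup.eq_bot_or_eq_top_of_normal _ (MonoidHom.normal_ker φ)).resolve_right
      fun h => ?_
    obtain ⟨a, ha⟩ : ∃ a : alternatingGroup (Fin 8), a ∉ R := by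
      by_contra hne
      push Not at hne
      have : R = ⊤ := top_unique fun a _ => hne a
      rw [this, Subgroup.index_top] at hRi
      omega
    have h1 : φ a = 1 := (MonoidHom.mem_ker).1 (h.ge (Subgroup.mem_top a))
    have h2 := hφ a ((1 : alternatingGroup (Fin 8)) : alternatingGroup (Fin 8) ⧸ R)
    rw [h1, Perm.one_apply, e.apply_eq_iff_eq, MulAction.Quotient.smul_coe, smul_eq_mul, mul_one,
      QuotientGroup.eq, inv_one, one_mul] at h2
    exact ha h2
  have hrange : φ.range = alternatingGroup (Fin 8) := by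
    refine eq_alternatingGroup_of_index_eq_two ?_
    have h := φ.range.card_mul_index
    rw [Nat.card_congr (MonoidHom.ofInjective hinj).toEquiv.symm, hA, AltEight.card_perm_eight] at h
    omega
  set y : Fin 8 := e ((1 : alternatingGroup (Fin 8)) : alternatingGroup (Fin 8) ⧸ R) with hy
  have hfix : ∀ q : Q, φ (f q) y = y := fun q => by
    rw [hy, hφ, e.apply_eq_iff_eq, MulAction.Quotient.smul_coe, smul_eq_mul, mul_one,
      QuotientGroup.eq, mul_one]
    exact inv_mem ⟨q, rfl⟩
  have hp : ∀ q : Q, ∀ x, φ (f q) x ≠ y ↔ x ≠ y := fun q x => by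
    refine not_congr ⟨fun h => (φ (f q)).injective (h.trans (hfix q).symm), fun h => ?_⟩
    rw [h]
    exact hfix q
  let ψ : Q →* Perm {x : Fin 8 // x ≠ y} :=
    { toFun := fun q => (φ (f q)).subtypePerm (hp q)
      map_one' := Equiv.ext fun x => Subtype.ext (by simp)
      map_mul' := fun a b => Equiv.ext fun x => Subtype.ext (by
        show φ (f (a * b)) x = φ (f a) (φ (f b) x)
        rw [map_mul, map_mul, Perm.mul_apply]) }
  have hψinj : Function.Injective ψ := by
    intro a b hab
    refine hf (hinj (Equiv.ext fun x => ?_))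
    by_cases hx : x = y
    · rw [hx, hfix, hfix]
    · exact congrArg Subtype.val (DFunLike.congr_fun hab ⟨x, hx⟩)
  have hsign : ∀ q, ψ q ∈ alternatingGroup {x : Fin 8 // x ≠ y} := fun q => by
    rw [mem_alternatingGroup]
    refine (sign_subtypePerm (p := fun x => x ≠ y) (φ (f q)) (hp q) fun x hx hxy => hx ?_).trans
      (mem_alternatingGroup.1 (hrange.le ⟨f q, rfl⟩))
    rw [hxy]
    exact hfix q
  let e7 : {x : Fin 8 // x ≠ y} ≃ Fin 7 := Fintype.equivFinOfCardEq (by
    rw [Fintype.card_subtype_compl, Fintype.card_subtype_eq, Fintype.card_fin])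
  let g : Q →* alternatingGroup (Fin 7) :=
    (Equiv.altCongrHom e7).toMonoidHom.comp (ψ.codRestrict _ hsign)
  have hg : Function.Injective g :=
    (Equiv.altCongrHom e7).injective.comp fun a b h => hψinj (congrArg Subtype.val h)
  refine ⟨MulEquiv.ofBijective g ((Nat.bijective_iff_injective_and_card g).2 ⟨hg, ?_⟩)⟩
  rw [hc, nat_card_alternatingGroup, Nat.card_fin]
  rfl

/-- Orders of subgroups of `A₈` that are multiples of `420`. -/
theorem card_cases_seven {Q : Type*} [Group Q] [Finite Q] (f : Q →* alternatingGroup (Fin 8))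
    (hf : Function.Injective f)
    (hc : Nat.card Q = 420 ∨ Nat.card Q = 840 ∨ Nat.card Q = 1260) : False := by
  classical
  haveI : Fact (Nat.Prime 7) := ⟨by norm_num⟩
  haveI : Fact (Nat.Prime 5) := ⟨by norm_num⟩
  let f' : Q →* Perm (Fin 8) := (alternatingGroup (Fin 8)).subtype.comp f
  have hf' : Function.Injective f' := (alternatingGroup (Fin 8)).subtype_injective.comp hf
  obtain ⟨P⟩ : Nonempty (Sylow 7 Q) := inferInstance
  have hP : Nat.card (P : Subgroup Q) = 7 := by
    rw [P.card_eq_multiplicity]
    rcases hc with h | h | h <;> rw [h] <;> decide +kernel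
  haveI : IsCyclic (P : Subgroup Q) := isCyclic_of_prime_card hP
  obtain ⟨x, hx⟩ : ∃ x ∈ (P : Subgroup Q), x ≠ 1 :=
    (P : Subgroup Q).bot_or_exists_ne_one.resolve_left fun h => by
      rw [h, Subgroup.card_bot] at hP
      omega
  have hox : orderOf x = 7 := by
    have h1 : orderOf x ∣ 7 := hP ▸ Subgroup.orderOf_dvd_natCard _ hx.1
    exact ((Nat.dvd_prime (by norm_num)).1 h1).resolve_left fun h => hx.2 (orderOf_eq_one_iff.1 h)
  have hof : orderOf (f' x) = 7 := by rw [orderOf_injective f' hf', hox]
  have hcent : ∀ z : Q, z * x = x * z → z ∈ (P : Subgroup Q) := by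
    intro z hz
    have h1 : f' z ∈ Subgroup.centralizer ({f' x} : Set (Perm (Fin 8))) := by
      rw [Subgroup.mem_centralizer_singleton_iff, ← map_mul, ← map_mul, hz]
    rw [AltEight.centralizer_seven hof] at h1
    obtain ⟨k, hk⟩ := Subgroup.mem_zpowers_iff.1 h1
    rw [← map_zpow] at hk
    rw [← hf' hk]
    exact Subgroup.zpow_mem _ hx.1 k
  have hC : Subgroup.centralizer ((P : Subgroup Q) : Set Q) ≤ (P : Subgroup Q) := fun z hz =>
    hcent z (Subgroup.mem_centralizer_iff.1 hz x hx.1).symm
  set N := Subgroup.normalizer ((P : Subgroup Q) : Set Q) with hN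
  have hNc : Nat.card N ∣ 42 := by
    have h1 := (Subgroup.normalizerMonoidHom (P : Subgroup Q)).ker.card_mul_index
    rw [Subgroup.index_ker] at h1
    rw [← h1, show (42 : ℕ) = 7 * 6 from rfl]
    refine Nat.mul_dvd_mul ?_ ?_
    · rw [Subgroup.normalizerMonoidHom_ker]
      refine (Subgroup.card_dvd_of_injective
        ((Subgroup.inclusion hC).comp ((N.subtype.subgroupComap (Subgroup.centralizer _))))
        ((Subgroup.inclusion_injective hC).comp fun a b h => Subtype.ext (Subtype.ext (congrArg Subtype.val h :)))).trans hP.dvd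
    · have h2 := Subgroup.card_subgroup_dvd_card (Subgroup.normalizerMonoidHom (P : Subgroup Q)).range
      rw [IsCyclic.card_mulAut, hP] at h2
      exact h2
  have hNi : N.index ≡ 1 [MOD 7] := by
    have h := card_sylow_modEq_one 7 Q
    rw [P.card_eq_index_normalizer] at h
    exact h
  have hNQ := N.card_mul_index
  have h7N : 7 ∣ Nat.card N := hP ▸ Subgroup.card_dvd_of_le Subgroup.le_normalizer
  have hN7 : Nat.card N = 7 ∧ Nat.card Q = 840 := by
    have : Nat.card N ∈ Nat.divisors 42 := Nat.mem_divisors.2 ⟨hNc, by norm_num⟩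
    rw [show Nat.divisors 42 = {1, 2, 3, 6, 7, 14, 21, 42} by decide +kernel] at this
    simp only [Finset.mem_insert, Finset.mem_singleton] at this
    unfold Nat.ModEq at hNi
    rcases this with h | h | h | h | h | h | h | h <;> rw [h] at hNQ h7N ⊢ <;>
      rcases hc with h' | h' | h' <;> rw [h'] at hNQ ⊢ <;> omega
  have hNP : (P : Subgroup Q) = N :=
    Subgroup.eq_of_le_of_card_ge Subgroup.le_normalizer (by rw [hN7.1, hP])
  have hNC : N ≤ Subgroup.centralizer ((P : Subgroup Q) : Set Q) := by
    rw [← hNP]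
    haveI : IsMulCommutative (P : Subgroup Q) := IsCyclic.isMulCommutative
    exact Subgroup.le_centralizer _
  set K := (MonoidHom.transferSylow P hNC).ker with hK
  have hKc : Nat.card K = 120 := by
    have h := (MonoidHom.ker_transferSylow_isComplement' P hNC).card_mul
    rw [hP, hN7.2] at h
    rw [hK]
    omega
  obtain ⟨R⟩ : Nonempty (Sylow 5 K) := inferInstance
  have hR : Nat.card (R : Subgroup K) = 5 := by
    rw [R.card_eq_multiplicity, hKc]
    decide +kernel
  have hsup := Sylow.normalizer_sup_eq_top R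
  set R' := (R : Subgroup K).map K.subtype with hR'
  set M := Subgroup.normalizer (R' : Set Q) with hM
  have hR'c : Nat.card R' = 5 := by rw [hR', Subgroup.card_map_of_injective K.subtype_injective, hR]
  have h7M : 7 ∣ Nat.card M := by
    have h1 : Nat.card Q ∣ Nat.card M * Nat.card K := by
      haveI : K.Normal := MonoidHom.normal_ker _
      have hrel : K.index = (K.subgroupOf M).index := by
        rw [← Subgroup.relIndex_top_right, ← hsup, Subgroup.relIndex_sup_right]
        rfl
      rw [← K.index_mul_card, hrel]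
      exact Nat.mul_dvd_mul_right (Subgroup.index_dvd_card _) _
    rw [hKc, hN7.2] at h1
    exact (Nat.dvd_of_mul_dvd_mul_right (k := 120) (by norm_num) h1)
  obtain ⟨z, hz⟩ := exists_prime_orderOf_dvd_card' 7 h7M
  have hz' : orderOf ((z : Q)) = 7 := by rw [Subgroup.orderOf_coe, hz]
  haveI : IsCyclic R' := isCyclic_of_prime_card hR'c
  have hcz : Subgroup.normalizerMonoidHom R' z = 1 := by
    rw [← orderOf_eq_one_iff]
    have h1 : orderOf (Subgroup.normalizerMonoidHom R' z) ∣ 7 := hz ▸ orderOf_map_dvd _ z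
    have h2 : orderOf (Subgroup.normalizerMonoidHom R' z) ∣ Nat.totient 5 := by
      rw [← hR'c, ← IsCyclic.card_mulAut]
      exact orderOf_dvd_natCard _
    have := Nat.dvd_gcd h1 h2
    rw [show Nat.gcd 7 (Nat.totient 5) = 1 by decide +kernel] at this
    exact Nat.dvd_one.1 this
  rw [← MonoidHom.mem_ker, Subgroup.normalizerMonoidHom_ker, Subgroup.mem_subgroupOf] at hcz
  obtain ⟨r, hr, hr1⟩ : ∃ r ∈ R', r ≠ 1 :=
    R'.bot_or_exists_ne_one.resolve_left fun h => by
      rw [h, Subgroup.card_bot] at hR'c
      omega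
  have hzr : (z : Q) * r = r * (z : Q) := (Subgroup.mem_centralizer_iff.1 hcz r hr).symm
  have hr5 : orderOf r = 5 := by
    have h1 : orderOf r ∣ 5 := hR'c ▸ Subgroup.orderOf_dvd_natCard _ hr
    exact ((Nat.dvd_prime (by norm_num)).1 h1).resolve_left fun h => hr1 (orderOf_eq_one_iff.1 h)
  have hrc : f' r ∈ Subgroup.centralizer ({f' (z : Q)} : Set (Perm (Fin 8))) := by
    rw [Subgroup.mem_centralizer_singleton_iff, ← map_mul, ← map_mul, hzr]
  have := Subgroup.orderOf_dvd_natCard _ hrc
  rw [orderOf_injective f' hf', hr5,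
    AltEight.card_centralizer_seven (by rw [orderOf_injective f' hf', hz'])] at this
  norm_num at this

end CfsgLib.NaturalSL2Embed
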