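import Mathlib
import Cfsg.Agent.Lib.NaturalSL2Embed.Abstract
import Cfsg.Agent.Lib.NaturalSL2Embed.IndexEight
import Cfsg.Agent.Lib.Linear.SL4Two
import Cfsg.Agent.Lib.Linear.Card
import Cfsg.Agent.Lib.Char.Burnside

/-!
# The field with four elements
-/

set_option autoImplicit false
set_option linter.style.haveILetI false
set_option linter.unusedSectionVars false

namespace CfsgLib.NaturalSL2Embed

open Matrix Subgroup

/-- A hom from a perfect group to a solvable group is trivial. -/
theorem map_eq_one_of_perfect {A B : Type*} [Group A] [Group B] (hA : commutator A = ⊤)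
    [Group.IsSolvable B] (f : A →* B) (a : A) : f a = 1 := by
  have h : ∀ n, (derivedSeries A n) = ⊤ := fun n => by
    induction n with
    | zero => rfl
    | succ n ih => rw [derivedSeries_succ, ih]; exact hA
  obtain ⟨n, hn⟩ := Group.IsSolvable.solvable (G := B)
  have h1 : f a ∈ (derivedSeries A n).map f := ⟨a, by rw [h n]; trivial, rfl⟩
  have h2 := (map_derivedSeries_le_derivedSeries f n) h1
  rwa [hn, Subgroup.mem_bot] at h2

namespace Emb

variable {F : Type*} [Field F] {p : ℕ} {Γ : Type*} [Group Γ] (e : Emb p F Γ)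
variable [Fintype F] [Finite Γ] [hp : Fact p.Prime] [CharP F p]
include e hp

/-- `Γ` embeds in `A₈`. -/
theorem exists_hom_A8 (h4 : Fintype.card F = 4) :
    ∃ f : Γ →* alternatingGroup (Fin 8), Function.Injective f := by
  classical
  have hp2 : p = 2 := by
    obtain ⟨n, hn⟩ := FiniteField.card F p
    have h : p ∣ 2 ^ 2 := by
      rw [show (2 : ℕ) ^ 2 = Fintype.card F by rw [h4]; rfl, hn.2]
      exact dvd_pow_self p n.ne_zero
    exact (Nat.prime_dvd_prime_iff_eq hp.out Nat.prime_two).1 (hp.out.dvd_of_dvd_pow h)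
  haveI : CharP F 2 := hp2 ▸ (inferInstance : CharP F p)
  letI : Algebra (ZMod 2) F := ZMod.algebra F 2
  haveI : Module.Finite (ZMod 2) (Fin 2 → F) := Module.Finite.of_finite
  have hr : Module.finrank (ZMod 2) (Fin 2 → F) = 4 := by
    have h := Module.card_eq_pow_finrank (K := ZMod 2) (V := Fin 2 → F)
    rw [Fintype.card_fun, h4, Fintype.card_fin, ZMod.card] at h
    exact (Nat.pow_right_injective le_rfl (show 2 ^ 4 = 2 ^ Module.finrank (ZMod 2) (Fin 2 → F) from h)).symm
  let b := Module.finBasisOfFinrankEq (ZMod 2) (Fin 2 → F) hr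
  let φ : Γ →* Matrix (Fin 4) (Fin 4) (ZMod 2) :=
    { toFun := fun g => LinearMap.toMatrixAlgEquiv b (AddMonoidHom.toZModLinearMap 2 (e.ρ g))
      map_one' := by
        rw [← map_one (LinearMap.toMatrixAlgEquiv b)]
        congr 1
        refine LinearMap.ext fun w => ?_
        exact e.act_one w
      map_mul' := fun g h => by
        rw [← map_mul (LinearMap.toMatrixAlgEquiv b)]
        congr 1
        refine LinearMap.ext fun w => ?_
        exact e.act_mul g h w }
  have hφ : Function.Injective φ := fun g h hgh => by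
    refine e.ext_act fun w => ?_
    exact LinearMap.congr_fun ((LinearMap.toMatrixAlgEquiv b).injective hgh) w
  have hdet : ∀ g, (φ g).det = 1 := fun g => by
    have h1 : (φ g).det * (φ g⁻¹).det = 1 := by
      rw [← det_mul, ← map_mul, mul_inv_cancel, map_one, det_one]
    have h2 : ∀ x : ZMod 2, x ≠ 0 → x = 1 := by decide
    exact h2 _ (left_ne_zero_of_mul_eq_one h1)
  let ψ : Γ →* SpecialLinearGroup (Fin 4) (ZMod 2) :=
    { toFun := fun g => ⟨φ g, hdet g⟩
      map_one' := Subtype.ext φ.map_one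
      map_mul' := fun g h => Subtype.ext (φ.map_mul g h) }
  obtain ⟨θ⟩ := CfsgLib.Linear.SL4Two.equiv_A8
  exact ⟨θ.toMonoidHom.comp ψ, θ.injective.comp fun g h hgh => hφ (congrArg Subtype.val hgh)⟩

/-- With four elements, either the copy of `SL₂` is normal or the group is `A₇`. -/
theorem normal_or_A7 (h4 : Fintype.card F = 4) :
    e.σ.range.Normal ∨ Nonempty (Γ ≃* alternatingGroup (Fin 7)) := by
  classical
  obtain ⟨f, hf⟩ := e.exists_hom_A8 h4
  have hperf : commutator (SpecialLinearGroup (Fin 2) F) = ⊤ :=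
    CfsgLib.Linear.commutator_SL_eq_top (Or.inr (CfsgLib.Linear.exists_sq_ne_one_of_four_le_card
      (by rw [Nat.card_eq_fintype_card, h4])))
  set L := e.σ.range with hL
  have hL60 : Nat.card L = 60 := by
    rw [hL, ← Nat.card_congr (MonoidHom.ofInjective e.σ_injective).toEquiv,
      CfsgLib.Linear.card_SL_two, h4]
    norm_num
  set N := Subgroup.normalizer (L : Set Γ) with hN
  have hTN : (e.T : Subgroup Γ) ≤ N := fun t ht => by
    rw [hN, Subgroup.mem_normalizer_iff]
    intro x
    constructor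
    · rintro ⟨A, rfl⟩
      obtain ⟨B, hB⟩ := e.hT t ht A
      exact ⟨B, hB.symm⟩
    · rintro ⟨A, hA⟩
      obtain ⟨B, hB⟩ := e.hT t⁻¹ (inv_mem ht) A
      rw [inv_inv] at hB
      exact ⟨B, by rw [← hB, hA]; group⟩
  have hLN : L ≤ N := Subgroup.le_normalizer
  have hG1 : Nat.card Γ ∣ 20160 := by
    have h := Subgroup.card_dvd_of_injective f hf
    rwa [nat_card_alternatingGroup, Nat.card_fin,
      show Nat.factorial 8 / 2 = 20160 from rfl] at h
  have hG2 : 60 ∣ Nat.card Γ := hL60 ▸ L.card_subgroup_dvd_card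
  obtain ⟨k, hk⟩ := hG2
  -- the two-part
  have hp2 : p = 2 := by
    obtain ⟨n, hn⟩ := FiniteField.card F p
    have h : p ∣ 2 ^ 2 := by
      rw [show (2 : ℕ) ^ 2 = Fintype.card F by rw [h4]; rfl, hn.2]
      exact dvd_pow_self p n.ne_zero
    exact (Nat.prime_dvd_prime_iff_eq hp.out Nat.prime_two).1 (hp.out.dvd_of_dvd_pow h)
  subst hp2
  have hT8 := e.card_T_le h4
  have h4T : 4 ∣ Nat.card (e.T : Subgroup Γ) :=
    h4 ▸ e.card_U ▸ Subgroup.card_dvd_of_le e.U_le_T
  obtain ⟨j, hj⟩ : ∃ j, N.index = 2 * j + 1 := by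
    have h : ¬ 2 ∣ N.index := fun h =>
      e.T.not_dvd_index (h.trans (Subgroup.index_dvd_of_le hTN))
    exact ⟨N.index / 2, by omega⟩
  have h16 : ¬ 16 ∣ Nat.card Γ := fun h => by
    have h1 : 2 ^ 4 ∣ Nat.card (e.T : Subgroup Γ) := e.T.pow_dvd_card_of_pow_dvd_card h
    have := Nat.le_of_dvd Nat.card_pos h1
    omega
  have hk42 : k ∣ 42 := by
    have h1 : k ∣ 336 := by
      rw [hk, show (20160 : ℕ) = 60 * 336 from rfl] at hG1
      exact Nat.dvd_of_mul_dvd_mul_left (by norm_num) hG1
    have h2 : ¬ 4 ∣ k := fun h => h16 (by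
      rw [hk]
      exact (show 16 ∣ 60 * 4 by norm_num).trans (Nat.mul_dvd_mul_left 60 h))
    have h3 : k ∈ Nat.divisors 336 := Nat.mem_divisors.2 ⟨h1, by norm_num⟩
    rw [show Nat.divisors 336 = {1, 2, 3, 4, 6, 7, 8, 12, 14, 16, 21, 24, 28, 42, 48, 56, 84, 112, 168, 336} by decide +kernel] at h3
    simp only [Finset.mem_insert, Finset.mem_singleton] at h3
    rcases h3 with h | h | h | h | h | h | h | h | h | h | h | h | h | h | h | h | h | h | h | h <;>
      subst h <;> first | omega | decide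
  have hkmem : k ∈ Nat.divisors 42 := Nat.mem_divisors.2 ⟨hk42, by norm_num⟩
  rw [show Nat.divisors 42 = {1, 2, 3, 6, 7, 14, 21, 42} by decide +kernel] at hkmem
  simp only [Finset.mem_insert, Finset.mem_singleton] at hkmem
  by_cases h7 : k = 7 ∨ k = 14 ∨ k = 21 ∨ k = 42
  · rcases h7 with h | h | h | h <;> subst h
    · exact (card_cases_seven f hf (Or.inl (hk.trans (by norm_num)))).elim
    · exact (card_cases_seven f hf (Or.inr (Or.inl (hk.trans (by norm_num))))).elim
    · exact (card_cases_seven f hf (Or.inr (Or.inr (hk.trans (by norm_num))))).elim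
    · exact Or.inr (equiv_A7_of_card f hf (hk.trans (by norm_num)))
  left
  have hLi : L.index = k := by
    have h := L.card_mul_index
    rw [hL60, hk] at h
    omega
  have hNi : N.index ∣ k := hLi ▸ Subgroup.index_dvd_of_le hLN
  have hN1 : N.index = 1 ∨ N.index = 3 := by
    have hk6 : k ∣ 6 := by
      rcases hkmem with h | h | h | h | h | h | h | h <;> subst h <;> norm_num <;> simp at h7
    have h : N.index ∈ Nat.divisors 6 := Nat.mem_divisors.2 ⟨hNi.trans hk6, by norm_num⟩
    rw [show Nat.divisors 6 = {1, 2, 3, 6} by decide +kernel] at h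
    simp only [Finset.mem_insert, Finset.mem_singleton] at h
    rcases h with h | h | h | h <;> omega
  rcases hN1 with hN1 | hN3
  · exact Subgroup.normalizer_eq_top_iff.1 (Subgroup.index_eq_one.1 hN1)
  -- every conjugate of `L` normalizes `L`
  have hS : ∀ g : Γ, ∀ A, g * e.σ A * g⁻¹ ∈ N := by
    intro g A
    haveI : Group.IsSolvable (Equiv.Perm (Γ ⧸ N)) := by
      refine CfsgLib.Char.isSolvable_of_card_eq_prime_pow_mul (p := 2) (q := 3) (a := 1) (b := 1)
        Nat.prime_two Nat.prime_three ?_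
      rw [Nat.card_perm, show Nat.card (Γ ⧸ N) = 3 from hN3]
      rfl
    have h := map_eq_one_of_perfect hperf
      ((MulAction.toPermHom Γ (Γ ⧸ N)).comp e.σ) A
    have h1 := DFunLike.congr_fun h ((g⁻¹ : Γ) : Γ ⧸ N)
    rw [MonoidHom.comp_apply, MulAction.toPermHom_apply, MulAction.toPerm_apply,
      Equiv.Perm.one_apply, MulAction.Quotient.smul_coe, QuotientGroup.eq, smul_eq_mul] at h1
    have h2 := inv_mem h1
    simpa [mul_assoc] using h2
  haveI : (L.subgroupOf N).Normal := Subgroup.normal_in_normalizer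
  have hq : Nat.card (N ⧸ L.subgroupOf N) ≤ 2 := by
    have h := Subgroup.relIndex_mul_index hLN
    rw [hLi, hN3] at h
    have hk6 : k ≤ 6 := by
      rcases hkmem with h | h | h | h | h | h | h | h <;> subst h <;> simp at h7 ⊢
    show (L.subgroupOf N).index ≤ 2
    show L.relIndex N ≤ 2
    omega
  haveI : Group.IsSolvable (N ⧸ L.subgroupOf N) :=
    CfsgLib.Char.isSolvable_of_card_eq_prime_pow_mul (p := 2) (q := 3)
      (a := Nat.card (N ⧸ L.subgroupOf N) - 1) (b := 0) Nat.prime_two Nat.prime_three (by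
        have h0 : 0 < Nat.card (N ⧸ L.subgroupOf N) := Nat.card_pos
        rcases (show Nat.card (N ⧸ L.subgroupOf N) = 1 ∨ Nat.card (N ⧸ L.subgroupOf N) = 2 by omega)
          with h | h <;> rw [h] <;> rfl)
  refine ⟨?_⟩
  rintro _ ⟨A, rfl⟩ g
  let c : SpecialLinearGroup (Fin 2) F →* N :=
    ((MulAut.conj g).toMonoidHom.comp e.σ).codRestrict N (hS g)
  have h := map_eq_one_of_perfect hperf ((QuotientGroup.mk' (L.subgroupOf N)).comp c) A
  exact Subgroup.mem_subgroupOf.1 ((QuotientGroup.eq_one_iff _).1 h)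

/-- The main alternative. -/
theorem normal_or_four :
    e.σ.range.Normal ∨ (Fintype.card F = 4 ∧ Nonempty (Γ ≃* alternatingGroup (Fin 7))) := by
  rcases e.spread_or_four with h | h
  · exact Or.inl (e.range_normal h)
  · exact (e.normal_or_A7 h).imp_right fun h' => ⟨h, h'⟩

end Emb

end CfsgLib.NaturalSL2Embed
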